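import Groth.Agent.NormalPush13.Main
import Groth.Prelude.Def_EtCore
import Mathlib.CategoryTheory.Adjunction.Unique

/-!
# Constant sheaves on a normal integral scheme and direct images from nonempty opens
-/

set_option autoImplicit false

universe u

open CategoryTheory CategoryTheory.Limits AlgebraicGeometry Opposite

namespace Groth.Agent.NormalUnit

set_option backward.isDefEq.respectTransparency.types false

variable {X : Scheme.{u}} [IsIntegral X]

omit [IsIntegral X] in
theorem subsingleton_spec_stalk_generic [IsIntegral X] :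
    Subsingleton ↥(Spec (X.presheaf.stalk (genericPoint X))) :=
  inferInstanceAs (Subsingleton (PrimeSpectrum X.functionField))

theorem isNormalScheme_of_stalks (hN : ∀ x : X, IsIntegrallyClosed (X.presheaf.stalk x)) :
    Pi1.IsNormalScheme X := fun x => ⟨inferInstance, hN x⟩

theorem isIso_unit_generic (hN : ∀ x : X, IsIntegrallyClosed (X.presheaf.stalk x))
    (M : Type) [AddCommGroup M] :
    IsIso ((EtCoh.pullPushAdj (X.fromSpecStalk (genericPoint X))).unit.app (EtCoh.const X M)) := by
  have := subsingleton_spec_stalk_generic (X := X)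
  have : QuasiCompact (X.fromSpecStalk (genericPoint X)) :=
    ⟨fun _ _ _ => Set.subsingleton_of_subsingleton.isCompact⟩
  refine NormalPush13.isIso_unit_const _ (isNormalScheme_of_stalks hN) fun V _ η hη =>
    NormalPush13.hmax_of_generic _ ?_ V η hη
  rw [Scheme.range_fromSpecStalk]
  exact specializes_rfl

theorem isIso_unit_open (hN : ∀ x : X, IsIntegrallyClosed (X.presheaf.stalk x)) (U : X.Opens)
    (hU : (U : Set X).Nonempty) (M : Type) [AddCommGroup M] :
    IsIso ((EtCoh.pullPushAdj U.ι).unit.app (EtCoh.const X M)) := by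
  obtain ⟨x₀, hx₀⟩ := hU
  have hη : genericPoint X ∈ U := (genericPoint_specializes x₀).mem_open U.2 hx₀
  let g := U.fromSpecStalkOfMem (genericPoint X) hη
  have hg : g ≫ U.ι = X.fromSpecStalk (genericPoint X) := U.fromSpecStalkOfMem_ι _ hη
  have : Nonempty U.toScheme := ⟨⟨x₀, hx₀⟩⟩
  have : IsIntegral U.toScheme := isIntegral_of_isOpenImmersion U.ι
  have hNU : ∀ u : U.toScheme, IsIntegrallyClosed (U.toScheme.presheaf.stalk u) := fun u => by
    have := hN (U.ι u)
    exact IsIntegrallyClosed.of_equiv (asIso (U.ι.stalkMap u)).commRingCatIsoToRingEquiv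
  have := subsingleton_spec_stalk_generic (X := X)
  have : QuasiCompact g := ⟨fun _ _ _ => Set.subsingleton_of_subsingleton.isCompact⟩
  have : IsPreimmersion (g ≫ U.ι) := by rw [hg]; infer_instance
  have : IsPreimmersion g := IsPreimmersion.of_comp g U.ι
  have hgen : genericPoint U.toScheme ∈ Set.range g.base := by
    obtain ⟨p, hp⟩ : genericPoint X ∈ Set.range (X.fromSpecStalk (genericPoint X)) := by
      rw [Scheme.range_fromSpecStalk]; exact specializes_rfl
    refine ⟨p, U.ι.isOpenEmbedding.injective ?_⟩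
    rw [← Scheme.Hom.comp_apply, hg, hp]
    exact (genericPoint_eq_of_isOpenImmersion U.ι).symm
  have h1 : IsIso ((EtCoh.pullPushAdj g).unit.app (EtCoh.const U.toScheme M)) :=
    NormalPush13.isIso_unit_const g (isNormalScheme_of_stalks hNU) fun V _ η hη' =>
      NormalPush13.hmax_of_generic g hgen V η hη'
  have h2 : IsIso ((EtCoh.pullPushAdj g).unit.app ((EtCoh.pull U.ι).obj (EtCoh.const X M))) := by
    let e := (EtCore.pullConstIso U.ι).app (AddCommGrpCat.of (ULift.{u + 1} M))
    exact (NatTrans.isIso_app_iff_of_iso (EtCoh.pullPushAdj g).unit e).2 h1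
  have h3 : IsIso ((EtCoh.pullPushAdj (g ≫ U.ι)).unit.app (EtCoh.const X M)) := by
    rw [hg]
    exact isIso_unit_generic hN M
  let adj' := ((EtCoh.pullPushAdj U.ι).comp (EtCoh.pullPushAdj g)).ofNatIsoRight (EtCoh.pushComp U.ι g)
  have h4 : IsIso (adj'.unit.app (EtCoh.const X M)) := by
    rw [← Adjunction.unit_leftAdjointUniq_hom_app (EtCoh.pullPushAdj (g ≫ U.ι)) adj']
    infer_instance
  have h5 : IsIso (((EtCoh.pullPushAdj U.ι).comp (EtCoh.pullPushAdj g)).unit.app (EtCoh.const X M)) := by
    have e : adj'.unit.app (EtCoh.const X M) =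
        ((EtCoh.pullPushAdj U.ι).comp (EtCoh.pullPushAdj g)).unit.app (EtCoh.const X M) ≫
          (EtCoh.pushComp U.ι g).hom.app _ := by
      simp [adj', Adjunction.ofNatIsoRight, Adjunction.equivHomsetRightOfNatIso, Adjunction.mkOfHomEquiv,
        Adjunction.homEquiv_unit]
    rw [e] at h4
    exact @IsIso.of_isIso_comp_right _ _ _ _ _ _ _ inferInstance h4
  rw [Adjunction.comp_unit_app] at h5
  exact @IsIso.of_isIso_comp_right _ _ _ _ _ _ _ inferInstance h5

end Groth.Agent.NormalUnit
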